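import Cfsg.Agent.H108.MeetU.Rigid

/-!
# Rigid unitary matrices over the field with four elements: base cases, arbitrary index sets (helper108)
-/

set_option autoImplicit false
set_option linter.unusedSectionVars false

namespace Cfsg.Agent.H108.MeetU

open Finset

variable {F : Type*} [Field F] {ω : F}

theorem base_three [CharP F 2] (hω : ω ^ 2 + ω + 1 = 0) :
    Inv (!![1, 1, 1; 1, ω, ω ^ 2; 1, ω ^ 2, ω] : Matrix (Fin 3) (Fin 3) F) 2 Finset.univ := by
  have h2 : (2 : F) = 0 := CharTwo.two_eq_zero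
  have e3 : ω ^ 3 = 1 := by linear_combination (ω - 1) * hω
  have e6 : ω ^ 6 = 1 := by rw [show 6 = 3 * 2 from rfl, pow_mul, e3, one_pow]
  have h0 := ne_zero_omega hω
  have hne : ∀ i j : Fin 3, (!![1, 1, 1; 1, ω, ω ^ 2; 1, ω ^ 2, ω] : Matrix (Fin 3) (Fin 3) F) i j ≠ 0 := by
    intro i j
    fin_cases i <;> fin_cases j <;> simp [h0]
  have hwt : ∀ j : Fin 3, wt (!![1, 1, 1; 1, ω, ω ^ 2; 1, ω ^ 2, ω] : Matrix (Fin 3) (Fin 3) F) j = 3 := by
    intro j
    unfold wt
    rw [Finset.sum_congr rfl fun i _ => ind_ne (hne i j)]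
    simp
  refine ⟨?_, fun j => by rw [hwt, hwt], ⟨0, hne _ _⟩, fun i => ⟨0, by decide, hne _ _⟩, ?_⟩
  · intro i k
    fin_cases i <;> fin_cases k <;> simp [Fin.sum_univ_three]
    · linear_combination h2
    · linear_combination hω + ω * e3
    · linear_combination hω + ω * e3
    · linear_combination hω
    · linear_combination e3 + e6 + h2
    · linear_combination (ω ^ 2 + ω) * e3 + hω
    · linear_combination hω
    · linear_combination (ω ^ 2 + ω) * e3 + hω
    · linear_combination e3 + e6 + h2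
  · intro π ρ c d ha hb hav
    have hρ : ρ = 1 := hav fun x hx => absurd (Finset.mem_univ x) hx
    have key : ∀ x : Fin 3, x ≠ 2 → π x = 0 ∨ π x = 1 := by
      intro x hx
      have h1 : π x ≠ 2 := fun h => hx (π.injective (h.trans hb.symm))
      omega
    have hπ : π = 1 := by
      ext1 x
      fin_cases x
      · exact ha.p3.fix_pair (key 0 (by decide)) (key 1 (by decide))
      · exact ha.p3.fix_pair (key 1 (by decide)).symm (key 0 (by decide)).symm
      · exact hb
    refine ⟨hπ, hρ, d 0, fun j => ?_⟩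
    have h1 := ha.rel 0 j
    rw [hπ, hρ] at h1
    have h3 : (!![1, 1, 1; 1, ω, ω ^ 2; 1, ω ^ 2, ω] : Matrix (Fin 3) (Fin 3) F) 0 j = 1 := by
      fin_cases j <;> simp
    simp only [Equiv.Perm.coe_one, id, h3, one_mul, mul_one] at h1
    exact h1

/-- `J + 1` in dimension four -/
def bb : Matrix (Fin 4) (Fin 4) F := fun i j => if i = j then 0 else 1

theorem bb_eq (i : Fin 4) : (bb : Matrix (Fin 4) (Fin 4) F) i i = 0 := if_pos rfl

theorem bb_ne {i j : Fin 4} (h : i ≠ j) : (bb : Matrix (Fin 4) (Fin 4) F) i j = 1 := if_neg h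

theorem base_four [CharP F 2] : Inv (bb : Matrix (Fin 4) (Fin 4) F) 3 {0, 1, 2} := by
  have h2 : (2 : F) = 0 := CharTwo.two_eq_zero
  have hwt : ∀ j : Fin 4, wt (bb : Matrix (Fin 4) (Fin 4) F) j = 3 := by
    intro j
    have h1 := ind_ne (one_ne_zero : (1 : F) ≠ 0)
    unfold wt
    fin_cases j <;> simp [Fin.sum_univ_four, bb, h1, ind_zero]
  refine ⟨?_, fun j => by rw [hwt, hwt], ⟨0, by rw [bb_ne (by decide)]; exact one_ne_zero⟩, fun i => ?_, ?_⟩
  · intro i k
    fin_cases i <;> fin_cases k <;> simp [Fin.sum_univ_four, bb] <;> linear_combination h2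
  · fin_cases i
    · exact ⟨1, by decide, by rw [bb_ne (by decide)]; exact one_ne_zero⟩
    · exact ⟨0, by decide, by rw [bb_ne (by decide)]; exact one_ne_zero⟩
    · exact ⟨0, by decide, by rw [bb_ne (by decide)]; exact one_ne_zero⟩
    · exact ⟨0, by decide, by rw [bb_ne (by decide)]; exact one_ne_zero⟩
  · intro π ρ c d ha hb hav
    have h1 : ρ = π := by
      ext1 i
      by_contra hne
      have h3 := (ha.zero_iff i i).2 (bb_eq i)
      rw [bb_ne hne] at h3
      exact one_ne_zero h3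
    subst h1
    have h3 : ρ = 1 := by
      apply hav
      intro x hx
      have hx3 : x = 3 := by
        simp only [Finset.mem_insert, Finset.mem_singleton] at hx
        omega
      rw [hx3, hb]
    refine ⟨h3, h3, ?_⟩
    have h4 : ∀ i j : Fin 4, i ≠ j → c j = d i := by
      intro i j hij
      have h5 := ha.rel i j
      rw [h3] at h5
      simp only [Equiv.Perm.coe_one, id, bb_ne hij, one_mul, mul_one] at h5
      exact h5
    refine ⟨c 0, fun j => ?_⟩
    fin_cases j
    · rfl
    · exact (h4 2 1 (by decide)).trans (h4 2 0 (by decide)).symm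
    · exact (h4 1 2 (by decide)).trans (h4 1 0 (by decide)).symm
    · exact (h4 1 3 (by decide)).trans (h4 1 0 (by decide)).symm

/-- There is a matrix with the invariant on a set of `n` elements. -/
def HasInv (F : Type*) [Field F] (n : ℕ) : Prop :=
  ∃ (ι : Type) (_ : Fintype ι) (_ : DecidableEq ι) (A : Matrix ι ι F) (b : ι) (T : Finset ι),
    Fintype.card ι = n ∧ T.card = 3 ∧ Inv A b T

/-- The final property. -/
def HasRig (F : Type*) [Field F] (n : ℕ) : Prop :=
  ∃ (ι : Type) (_ : Fintype ι) (_ : DecidableEq ι) (A : Matrix ι ι F) (T₁ T₂ : Finset ι),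
    Fintype.card ι = n ∧ T₁.card = 3 ∧ T₂.card = 3 ∧ Uni A ∧
    ∀ (π ρ : Equiv.Perm ι) (c d : ι → F), Auto A π ρ c d → ((∀ x, x ∉ T₁ → π x = x) → π = 1) →
      ((∀ x, x ∉ T₂ → ρ x = x) → ρ = 1) → π = 1 ∧ ρ = 1 ∧ ∃ s, ∀ j, c j = s

theorem hasInv [CharP F 2] (hω : ω ^ 2 + ω + 1 = 0) : ∀ n, 3 ≤ n → HasInv F n := by
  intro n
  induction n using Nat.strong_induction_on with
  | _ n ih =>
    intro hn
    rcases Nat.lt_or_ge n 5 with h | h
    · interval_cases n
      · exact ⟨Fin 3, inferInstance, inferInstance, _, _, _, Fintype.card_fin 3, by simp, base_three hω⟩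
      · exact ⟨Fin 4, inferInstance, inferInstance, _, _, _, Fintype.card_fin 4, by decide, base_four⟩
    · obtain ⟨ι, _, _, A, b, T, h1, h2, h3⟩ := ih (n - 2) (by omega) (by omega)
      refine ⟨Option (Option ι), inferInstance, inferInstance, _, _, _, ?_, ?_, inv_ext hω h3⟩
      · rw [Fintype.card_option, Fintype.card_option, h1]
        omega
      · rw [card_old, h2]

theorem hasRig [CharP F 2] (hω : ω ^ 2 + ω + 1 = 0) {n : ℕ} (hn : 5 ≤ n) : HasRig F n := by
  obtain ⟨ι, _, _, A, b, T, h1, h2, h3⟩ := hasInv (F := F) hω (n - 2) (by omega)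
  refine ⟨Option (Option ι), inferInstance, inferInstance, ext ω A b, tri b, old T, ?_, card_tri b, ?_,
    uni_ext hω h3.uni, ?_⟩
  · rw [Fintype.card_option, Fintype.card_option, h1]
    omega
  · rw [card_old, h2]
  · intro π ρ c d ha h4 h5
    obtain ⟨h6, h7, h8⟩ := step hω h3 ha h5
    exact ⟨h4 h6, h7, h8⟩

end Cfsg.Agent.H108.MeetU
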