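import Cfsg.Agent.H108.MeetU.Base

/-!
# A unitary matrix over `F_4` with trivial automorphism group relative to a 3-group of permutations (helper108)
-/

set_option autoImplicit false
set_option linter.unusedSectionVars false

namespace Cfsg.Agent.H108.MeetU

open Finset

/-- A `3`-group of permutations of at least five points has a set of three points supporting none of its
non-trivial elements. -/
theorem exists_triple {ι : Type*} [Fintype ι] [DecidableEq ι] (h5 : 5 ≤ Fintype.card ι)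
    (S : Subgroup (Equiv.Perm ι)) (hS : IsPGroup 3 S) :
    ∃ T : Finset ι, T.card = 3 ∧ ∀ σ ∈ S, (∀ x, x ∉ T → σ x = x) → σ = 1 := by
  by_contra hno
  push Not at hno
  have hemb : Nonempty (Fin 5 ↪ ι) := Function.Embedding.nonempty_of_card_le (by simpa using h5)
  obtain ⟨e⟩ := hemb
  have hP3 : ∀ σ ∈ S, P3 σ := by
    intro σ hσ
    obtain ⟨k, hk⟩ := hS ⟨σ, hσ⟩
    exact ⟨k, congrArg Subtype.val hk⟩
  -- a non-trivial element supported on three points moves all of them
  have key : ∀ (σ : Equiv.Perm ι), P3 σ → ∀ x y z : ι, (∀ t, t ≠ x → t ≠ y → t ≠ z → σ t = t) → σ ≠ 1 → σ x ≠ x := by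
    intro σ hσ x y z hsup hne hx
    apply hne
    have hy : σ y = y ∨ σ y = z := by
      by_contra hcon
      push Not at hcon
      have h1 : σ y ≠ x := fun h => hcon.1 (by
        have : y = x := σ.injective (h.trans hx.symm)
        rw [this, hx])
      exact hcon.1 (σ.injective (hsup (σ y) h1 hcon.1 hcon.2))
    have hz : σ z = y ∨ σ z = z := by
      by_contra hcon
      push Not at hcon
      have h1 : σ z ≠ x := fun h => hcon.2 (by
        have : z = x := σ.injective (h.trans hx.symm)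
        rw [this, hx])
      exact hcon.2 (σ.injective (hsup (σ z) h1 hcon.1 hcon.2))
    have hy' := hσ.fix_pair hy hz
    have hz' := hσ.fix_pair hz.symm hy.symm
    ext t
    by_cases h1 : t = x
    · rw [h1, hx]; rfl
    by_cases h2 : t = y
    · rw [h2, hy']; rfl
    by_cases h3 : t = z
    · rw [h3, hz']; rfl
    exact hsup t h1 h2 h3
  have hd : ∀ i j : Fin 5, i ≠ j → e i ≠ e j := fun i j hij h => hij (e.injective h)
  obtain ⟨σ, hσ, hσs, hσ1⟩ := hno {e 0, e 1, e 2} (by
    rw [Finset.card_insert_of_notMem, Finset.card_insert_of_notMem, Finset.card_singleton]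
    · simp
    · simp)
  obtain ⟨τ, hτ, hτs, hτ1⟩ := hno {e 2, e 3, e 4} (by
    rw [Finset.card_insert_of_notMem, Finset.card_insert_of_notMem, Finset.card_singleton]
    · simp
    · simp)
  have hσs' : ∀ t, t ≠ e 0 → t ≠ e 1 → t ≠ e 2 → σ t = t := fun t h0 h1 h2 => hσs t (by
    simp only [Finset.mem_insert, Finset.mem_singleton]
    tauto)
  have hτs' : ∀ t, t ≠ e 2 → t ≠ e 3 → t ≠ e 4 → τ t = t := fun t h0 h1 h2 => hτs t (by
    simp only [Finset.mem_insert, Finset.mem_singleton]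
    tauto)
  have s0 := key σ (hP3 σ hσ) (e 0) (e 1) (e 2) hσs' hσ1
  have s1 := key σ (hP3 σ hσ) (e 1) (e 0) (e 2) (fun t a b c => hσs' t b a c) hσ1
  have s2 := key σ (hP3 σ hσ) (e 2) (e 1) (e 0) (fun t a b c => hσs' t c b a) hσ1
  have t3 := key τ (hP3 τ hτ) (e 3) (e 2) (e 4) (fun t a b c => hτs' t b a c) hτ1
  have t4 := key τ (hP3 τ hτ) (e 4) (e 3) (e 2) (fun t a b c => hτs' t c b a) hτ1
  -- count the fixed points of the group
  have hmod := hS.card_modEq_card_fixedPoints ι (p := 3)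
  let K : Subgroup (Equiv.Perm ι) := Subgroup.closure {σ, τ}
  have hK : K ≤ S := (Subgroup.closure_le _).2 (by
    rintro x (rfl | rfl)
    · exact hσ
    · exact hτ)
  have hKp : IsPGroup 3 K := hS.to_le hK
  have hmod := hKp.card_modEq_card_fixedPoints ι (p := 3)
  have hfix : MulAction.fixedPoints K ι = ((Finset.univ : Finset (Fin 5)).map e : Set ι)ᶜ := by
    ext x
    rw [MulAction.mem_fixedPoints, Set.mem_compl_iff]
    constructor
    · intro hx hm
      rw [Finset.mem_coe, Finset.mem_map] at hm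
      obtain ⟨i, -, rfl⟩ := hm
      have h1 : σ (e i) = e i := hx ⟨σ, Subgroup.subset_closure (by simp)⟩
      have h2 : τ (e i) = e i := hx ⟨τ, Subgroup.subset_closure (by simp)⟩
      fin_cases i
      · exact s0 h1
      · exact s1 h1
      · exact s2 h1
      · exact t3 h2
      · exact t4 h2
    · intro hx
      have hxe : ∀ i, x ≠ e i := fun i h => hx (by rw [h]; simp)
      have h1 : σ x = x := hσs' x (hxe _) (hxe _) (hxe _)
      have h2 : τ x = x := hτs' x (hxe _) (hxe _) (hxe _)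
      have h3 : K ≤ MulAction.stabilizer (Equiv.Perm ι) x := (Subgroup.closure_le _).2 (by
        rintro y (rfl | rfl)
        · exact h1
        · exact h2)
      intro k
      exact h3 k.2
  rw [hfix] at hmod
  have hc : Nat.card (((Finset.univ : Finset (Fin 5)).map e : Set ι)ᶜ : Set ι) = Fintype.card ι - 5 := by
    rw [← Finset.coe_compl, Nat.card_coe_set_eq, Set.ncard_coe_finset, Finset.card_compl, Finset.card_map]
    simp
  rw [hc, Nat.card_eq_fintype_card] at hmod
  have h6 := (Nat.modEq_iff_dvd' (Nat.sub_le _ _)).1 hmod.symm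
  omega

/-- Bijections between sets with the same number of elements can be chosen to match two subsets. -/
theorem exists_equiv {α β : Type*} [Fintype α] [Fintype β] [DecidableEq α] [DecidableEq β]
    (h : Fintype.card α = Fintype.card β) (S : Finset α) (T : Finset β) (hST : S.card = T.card) :
    ∃ e : α ≃ β, ∀ x, e x ∈ T ↔ x ∈ S := by
  have h1 : Fintype.card {x // x ∈ S} = Fintype.card {y // y ∈ T} := by simpa using hST
  have h2 : Fintype.card {x // x ∉ S} = Fintype.card {y // y ∉ T} := by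
    rw [Fintype.card_subtype_compl, Fintype.card_subtype_compl, h, h1]
  let e1 := Fintype.equivOfCardEq h1
  let e2 := Fintype.equivOfCardEq h2
  refine ⟨(Equiv.sumCompl (fun x => x ∈ S)).symm.trans ((Equiv.sumCongr e1 e2).trans (Equiv.sumCompl (fun x => x ∈ T))), ?_⟩
  intro x
  by_cases hx : x ∈ S
  · simp only [hx, iff_true, Equiv.trans_apply]
    rw [Equiv.sumCompl_symm_apply_of_pos hx]
    exact (e1 ⟨x, hx⟩).2
  · simp only [hx, iff_false, Equiv.trans_apply]
    rw [Equiv.sumCompl_symm_apply_of_neg hx]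
    exact (e2 ⟨x, hx⟩).2

section

variable {F : Type*} [Field F] {α ι : Type} [Fintype ι] [DecidableEq ι] [Fintype α] [DecidableEq α]

theorem p3_conj {σ : Equiv.Perm α} (h : P3 σ) (e : α ≃ ι) : P3 (e.symm.trans (σ.trans e)) :=
  h.of_semiconj e.symm e.symm.injective Set.univ (fun a _ => ⟨trivial, by simp⟩) (fun a h => absurd trivial h)

theorem auto_conj {A : Matrix ι ι F} {e₁ e₂ : α ≃ ι} {π ρ : Equiv.Perm α} {c d : α → F}
    (h : Auto (fun i j => A (e₂ i) (e₁ j) : Matrix α α F) π ρ c d) :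
    Auto A (e₁.symm.trans (π.trans e₁)) (e₂.symm.trans (ρ.trans e₂)) (fun j => c (e₁.symm j)) (fun i => d (e₂.symm i)) := by
  refine ⟨p3_conj h.p3 _, p3_conj h.p3' _, fun j => h.ne _, fun i => h.ne' _, fun i j => ?_⟩
  have h1 := h.rel (e₂.symm i) (e₁.symm j)
  simpa using h1

theorem conj_eq_one {π : Equiv.Perm α} {e : α ≃ ι} (h : e.symm.trans (π.trans e) = 1) : π = 1 := by
  ext x
  have h1 := Equiv.congr_fun h (e x)
  simpa using h1

theorem uni_conj {A : Matrix ι ι F} (h : Uni A) (e₁ e₂ : α ≃ ι) : Uni (fun i j => A (e₂ i) (e₁ j) : Matrix α α F) := by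
  intro i k
  have h1 := h (e₂ i) (e₂ k)
  rw [← Equiv.sum_comp e₁] at h1
  rw [h1]
  simp

end

/-- **Main combinatorial statement.** -/
theorem main_matrix {F : Type*} [Field F] [CharP F 2] {ω : F} (hω : ω ^ 2 + ω + 1 = 0) {n : ℕ} (hn : 4 ≤ n)
    (S : Subgroup (Equiv.Perm (Fin n))) (hS : IsPGroup 3 S) :
    ∃ M : Matrix (Fin n) (Fin n) F, Uni M ∧
      ∀ π ∈ S, ∀ ρ ∈ S, ∀ c d : Fin n → F, (∀ j, c j ≠ 0) → (∀ i, d i ≠ 0) →
        (∀ i j, M (ρ i) (π j) * c j = d i * M i j) → π = 1 ∧ ∃ s, ∀ j, c j = s := by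
  have hP3 : ∀ σ ∈ S, P3 σ := by
    intro σ hσ
    obtain ⟨k, hk⟩ := hS ⟨σ, hσ⟩
    exact ⟨k, congrArg Subtype.val hk⟩
  rcases Nat.lt_or_ge n 5 with h | h
  · have hn4 : n = 4 := by omega
    subst hn4
    obtain ⟨x₀, hx₀⟩ := hS.nonempty_fixed_point_of_prime_not_dvd_card (Fin 4) (by simp)
    have hfix : ∀ σ ∈ S, σ x₀ = x₀ := fun σ hσ => hx₀ ⟨σ, hσ⟩
    have hI := base_four (F := F)
    let e₁ : Fin 4 ≃ Fin 4 := Equiv.swap x₀ 3
    let e₂ : Fin 4 ≃ Fin 4 := Equiv.swap x₀ 2
    have he₁ : e₁ x₀ = 3 := Equiv.swap_apply_left _ _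
    have he₁' : e₁.symm 3 = x₀ := by rw [← he₁, Equiv.symm_apply_apply]
    have he₂ : e₂ x₀ = 2 := Equiv.swap_apply_left _ _
    have he₂' : e₂.symm 2 = x₀ := by rw [← he₂, Equiv.symm_apply_apply]
    refine ⟨fun i j => bb (e₂ i) (e₁ j), uni_conj hI.uni e₁ e₂, ?_⟩
    intro π hπ ρ hρ c d hc hd hrel
    have ha := auto_conj (A := bb) (e₁ := e₁) (e₂ := e₂) ⟨hP3 π hπ, hP3 ρ hρ, hc, hd, hrel⟩
    obtain ⟨h1, -, s, hs⟩ := hI.rig _ _ _ _ ha (by simp [he₁', hfix π hπ, he₁]) (by
      intro hsup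
      set ρ' := e₂.symm.trans (ρ.trans e₂) with hρ'
      have h3 : ρ' 3 = 3 := hsup 3 (by decide)
      have h2 : ρ' 2 = 2 := by simp [hρ', he₂', hfix ρ hρ, he₂]
      have key : ∀ x : Fin 4, x = 0 ∨ x = 1 → ρ' x = 0 ∨ ρ' x = 1 := by
        intro x hx
        have h5 : ρ' x ≠ 3 := fun h => by
          have := ρ'.injective (h.trans h3.symm)
          omega
        have h6 : ρ' x ≠ 2 := fun h => by
          have := ρ'.injective (h.trans h2.symm)
          omega
        omega
      have h7 := key 0 (Or.inl rfl)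
      have h8 := key 1 (Or.inr rfl)
      have hp := ha.p3'
      ext1 x
      fin_cases x
      · exact hp.fix_pair h7 h8
      · exact hp.fix_pair h8.symm h7.symm
      · exact h2
      · exact h3)
    refine ⟨conj_eq_one h1, s, fun j => ?_⟩
    have := hs (e₁ j)
    simpa using this
  · obtain ⟨ι, _, _, A, T₁, T₂, hcard, h1, h2, hU, hR⟩ := hasRig (F := F) hω h
    obtain ⟨T, hT, hTS⟩ := exists_triple (by simpa using h) S hS
    obtain ⟨e₁, he₁⟩ := exists_equiv (α := Fin n) (β := ι) (by simp [hcard]) T T₁ (by rw [hT, h1])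
    obtain ⟨e₂, he₂⟩ := exists_equiv (α := Fin n) (β := ι) (by simp [hcard]) T T₂ (by rw [hT, h2])
    refine ⟨fun i j => A (e₂ i) (e₁ j), uni_conj hU e₁ e₂, ?_⟩
    intro π hπ ρ hρ c d hc hd hrel
    have ha := auto_conj (A := A) (e₁ := e₁) (e₂ := e₂) ⟨hP3 π hπ, hP3 ρ hρ, hc, hd, hrel⟩
    have aux : ∀ (σ : Equiv.Perm (Fin n)), σ ∈ S → ∀ (e : Fin n ≃ ι) (T' : Finset ι), (∀ x, e x ∈ T' ↔ x ∈ T) →
        (∀ x, x ∉ T' → (e.symm.trans (σ.trans e)) x = x) → e.symm.trans (σ.trans e) = 1 := by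
      intro σ hσ e T' he hsup
      have h3 : σ = 1 := by
        apply hTS σ hσ
        intro x hx
        have h4 := hsup (e x) (fun h => hx ((he x).1 h))
        simpa using h4
      rw [h3]
      ext x
      simp
    obtain ⟨h3, -, s, hs⟩ := hR _ _ _ _ ha (aux π hπ e₁ T₁ he₁) (aux ρ hρ e₂ T₂ he₂)
    refine ⟨conj_eq_one h3, s, fun j => ?_⟩
    have := hs (e₁ j)
    simpa using this

end Cfsg.Agent.H108.MeetU
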