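import Cfsg.Agent.H108.MeetU.Index
import Cfsg.Agent.H709.GmnPSU
import Cfsg.Agent.H903.SylMeet
import Cfsg.Agent.Lib.FieldAutCard

/-!
`PSU_n(2)`, `n ≥ 4`, `p = 3`: every `3`-subgroup of the automorphism group meets one of its conjugates under an
inner automorphism trivially.
-/

set_option autoImplicit false
set_option linter.unusedSectionVars false

namespace Cfsg.Agent.H108.MeetU

open Cfsg Matrix
open Cfsg.Agent.LieClassical.SUBasic
open Cfsg.Agent.ClassicalGeometry.PSUAutCount Cfsg.Agent.ClassicalGeometry.UnitAutBasic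
open Cfsg.Agent.H183.OutPSU Cfsg.Agent.H709.Mono
open Cfsg.Agent.ClassicalGeometry.GUBasic
open Cfsg.Agent.H709.GmnPSU (Gam rho X permX isMono_permX index_X rho_inl rho_apply)
open Cfsg.Agent.H903.SylMeet (Meet meet_of_index)

section

variable {F : Type*} [Field F] {n : ℕ}

/-- A matrix with orthonormal rows is an element of `GU`. -/
theorem exists_GU [CharP F 2] {M : Matrix (Fin n) (Fin n) F} (hM : Uni M) :
    ∃ A : GU n F 2, gm A = M := by
  have : Fact (Nat.Prime 2) := ⟨Nat.prime_two⟩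
  have : ExpChar F 2 := ExpChar.prime Nat.prime_two
  let N : Matrix (Fin n) (Fin n) F := M.map (frobenius F 2)
  have h1 : M * Nᵀ = 1 := by
    ext i k
    rw [Matrix.mul_apply]
    have := hM i k
    simp only [N, Matrix.transpose_apply, Matrix.map_apply, frobenius_def]
    rw [this, Matrix.one_apply]
  have h2 : Nᵀ * M = 1 := mul_eq_one_comm.1 h1
  have h3 : Mᵀ * N = 1 := by
    have := congrArg Matrix.transpose h2
    rwa [Matrix.transpose_mul, Matrix.transpose_transpose, Matrix.transpose_one] at this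
  refine ⟨⟨⟨M, Nᵀ, h1, h2⟩, ?_⟩, rfl⟩
  intro u v
  change hermForm n F 2 (M *ᵥ u) (M *ᵥ v) = hermForm n F 2 u v
  have e : ∀ a b : Fin n → F, hermForm n F 2 a b = a ⬝ᵥ (fun i => frobenius F 2 (b i)) := by
    intro a b
    rfl
  have e2 : (fun i => frobenius F 2 ((M *ᵥ v) i)) = N *ᵥ (fun i => frobenius F 2 (v i)) := by
    funext i
    rw [RingHom.map_mulVec]
    rfl
  rw [e, e, e2, ← Matrix.vecMul_transpose, ← Matrix.dotProduct_mulVec, Matrix.mulVec_mulVec, h3,
    Matrix.one_mulVec]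

variable [Fintype F]

theorem card_units_four (hF : Fintype.card F = 2 ^ 2) {a : F} (ha : a ≠ 0) : a ^ 3 = 1 := by
  have := FiniteField.pow_card_sub_one_eq_one a ha
  rwa [hF] at this

theorem exists_omega (hF : Fintype.card F = 2 ^ 2) [CharP F 2] : ∃ ω : F, ω ^ 2 + ω + 1 = 0 := by
  classical
  obtain ⟨x, hx⟩ : ∃ x : F, x ∉ ({0, 1} : Finset F) := by
    by_contra h
    push Not at h
    have h1 : (Finset.univ : Finset F) ⊆ {0, 1} := fun x _ => h x
    have h2 := Finset.card_le_card h1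
    rw [Finset.card_univ, hF] at h2
    have h3 := Finset.card_le_two (a := (0 : F)) (b := 1)
    omega
  simp only [Finset.mem_insert, Finset.mem_singleton, not_or] at hx
  obtain ⟨h0, h1⟩ := hx
  have h3 := card_units_four hF h0
  refine ⟨x, ?_⟩
  have h4 : (x - 1) * (x ^ 2 + x + 1) = 0 := by
    have : (x - 1) * (x ^ 2 + x + 1) = x ^ 3 - 1 := by ring
    rw [this, h3, sub_self]
  exact (mul_eq_zero.1 h4).resolve_left (sub_ne_zero.2 h1)

/-- Change the determinant to one by scaling a row. -/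
theorem exists_GU_det_one (hF : Fintype.card F = 2 ^ 2) [CharP F 2] (hn : 1 ≤ n)
    {M : Matrix (Fin n) (Fin n) F} (hM : Uni M) :
    ∃ (A : GU n F 2) (t : Fin n → F), (∀ i, t i ≠ 0) ∧ (∀ i j, gm A i j = t i * M i j) ∧
      (gm A).det = 1 := by
  obtain ⟨A, hA⟩ := exists_GU hM
  have hd : (gm A).det ≠ 0 := by
    intro h0
    have h1 := congrArg Matrix.det (gm_mul_inv A)
    rw [det_mul, h0, zero_mul, det_one] at h1
    exact zero_ne_one h1
  let t : Fin n → F := fun i => if i = ⟨0, by omega⟩ then ((gm A).det)⁻¹ else 1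
  have ht0 : ∀ i, t i ≠ 0 := by
    intro i
    change (if i = ⟨0, by omega⟩ then ((gm A).det)⁻¹ else 1) ≠ 0
    split_ifs
    · exact inv_ne_zero hd
    · exact one_ne_zero
  have ht : ∀ i, t i ^ (2 + 1) = 1 := fun i => card_units_four hF (ht0 i)
  have e : gm (guDiag 2 t ht) = diagonal t := rfl
  refine ⟨guDiag 2 t ht * A, t, ht0, fun i j => ?_, ?_⟩
  · rw [gm_mul, e, diagonal_mul, hA]
  · rw [gm_mul, e, det_mul, det_diagonal]
    have : ∏ i, t i = ((gm A).det)⁻¹ := by
      change ∏ i : Fin n, (if i = (⟨0, by omega⟩ : Fin n) then ((gm A).det)⁻¹ else (1 : F)) = _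
      rw [Finset.prod_ite_eq' Finset.univ, if_pos (Finset.mem_univ _)]
    rw [this, inv_mul_cancel₀ hd]

/-- **The row** `PSU_n(2)`, `p = 3`, `n ≥ 4`. -/
theorem meet3_PSU_two' (hF : Fintype.card F = 2 ^ 2) (hn : 4 ≤ n) : Meet 3 (PSU n F 2) := by
  classical
  have hp3 : Fact (Nat.Prime 3) := ⟨Nat.prime_three⟩
  have hp2 : Fact (Nat.Prime 2) := ⟨Nat.prime_two⟩
  have hchar : CharP F 2 := charP_of_card_eq_prime_pow hF
  have hfin : Finite (GU n F 2) := LieClassical.GUOrder.finite_GU n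
  have hfinP : Finite (PSU n F 2) := Finite.of_surjective _ (pr_surjective (n := n) (F := F) (q := 2))
  have hfinR : Finite (F ≃+* F) :=
    Finite.of_injective (fun α : F ≃+* F => (α : F → F))
      (fun α β h => RingEquiv.ext fun x => congrFun h x)
  have hfinG : Finite (Gam n 2 F) := Finite.of_equiv _ SemidirectProduct.equivProd.symm
  have hsurj := Cfsg.Agent.ClassicalGeometry.PSUAutMain.exists_toAut hF (by omega : 3 ≤ n)
    (by omega : ¬ (n = 3 ∧ 2 = 2))
  obtain ⟨ω, hω⟩ := exists_omega hF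
  -- field automorphisms
  have hR : Nat.card (F ≃+* F) = 2 := Cfsg.Agent.Lib.FieldAutCard.card_ringAut (by norm_num) hF
  -- the Sylow subgroup
  obtain ⟨Q⟩ : Nonempty (Sylow 3 (X n 2 F)) := inferInstance
  have hQ : IsPGroup 3 (Q : Subgroup (X n 2 F)) := Q.isPGroup'
  let S : Subgroup (Equiv.Perm (Fin n)) := (Q : Subgroup (X n 2 F)).map (permX n 2 F)
  have hS : IsPGroup 3 S := hQ.map _
  obtain ⟨M, hM, hkey⟩ := main_matrix hω hn S hS
  obtain ⟨A, t, ht, hA, hdet⟩ := exists_GU_det_one hF (by omega) hM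
  obtain ⟨g, hg⟩ := exists_SU_of_det A hdet
  let P0 : Subgroup (Gam n 2 F) := (Q : Subgroup (X n 2 F)).map (X n 2 F).subtype
  have hP0 : IsPGroup 3 P0 := hQ.map _
  let P : Subgroup (MulAut (PSU n F 2)) := P0.map (rho n 2 F)
  have hP : IsPGroup 3 P := hP0.map _
  have hi : ¬ 3 ∣ P.index := by
    have h1 : P.index ∣ P0.index := Subgroup.index_map_dvd _ (by
      intro α
      obtain ⟨B, σ, rfl⟩ := hsurj α
      exact ⟨⟨B, σ⟩, rho_apply _⟩)
    have h2 : P0.index = (Q : Subgroup (X n 2 F)).index * (X n 2 F).index :=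
      Subgroup.index_map_subtype _
    intro h3
    have h4 := h3.trans h1
    rw [h2] at h4
    rcases (Nat.Prime.dvd_mul Nat.prime_three).1 h4 with h5 | h5
    · exact Q.not_dvd_index h5
    · exact index_X hF (by norm_num) (by norm_num) h5
  -- elements of `P0` are linear
  have hlin : ∀ a ∈ P0, a.right = 1 := by
    intro a ha
    obtain ⟨k, hk⟩ := hP0 ⟨a, ha⟩
    have hk' : a ^ 3 ^ k = 1 := congrArg Subtype.val hk
    have h1 : (a.right) ^ 3 ^ k = 1 := by
      have := congrArg (SemidirectProduct.rightHom) hk'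
      rwa [map_pow, map_one] at this
    have h2 : (a.right) ^ 2 = 1 := by
      have := pow_card_eq_one' (x := a.right)
      rwa [hR] at this
    have h3 : Nat.Coprime (3 ^ k) 2 := Nat.Coprime.pow_left _ (by norm_num)
    have h4 : orderOf a.right ∣ Nat.gcd (3 ^ k) 2 :=
      Nat.dvd_gcd (orderOf_dvd_of_pow_eq_one h1) (orderOf_dvd_of_pow_eq_one h2)
    rw [h3] at h4
    exact orderOf_eq_one_iff.1 (Nat.dvd_one.1 h4)
  refine meet_of_index P hP hi ⟨pr n F 2 g, ?_⟩
  rintro _ ⟨a, ha, rfl⟩ hconj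
  rw [← cG_of_SU g A hg, ← rho_inl, ← map_inv, ← map_mul, ← map_mul] at hconj
  obtain ⟨b, hb, hab⟩ := hconj
  have har := hlin a ha
  have hbr := hlin b hb
  obtain ⟨a', ha', rfl⟩ := ha
  obtain ⟨b', hb', rfl⟩ := hb
  change ((a' : Gam n 2 F)).right = 1 at har
  change ((b' : Gam n 2 F)).right = 1 at hbr
  change rho n 2 F (b' : Gam n 2 F) = rho n 2 F (SemidirectProduct.inl A * (a' : Gam n 2 F) *
    (SemidirectProduct.inl A)⁻¹) at hab
  have e1 : (a' : Gam n 2 F) = SemidirectProduct.inl (a' : Gam n 2 F).left := by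
    apply SemidirectProduct.ext
    · rw [SemidirectProduct.left_inl]
    · rw [SemidirectProduct.right_inl, har]
  have e2 : rho n 2 F (SemidirectProduct.inl A * (a' : Gam n 2 F) * (SemidirectProduct.inl A)⁻¹) =
      toAut (A * (a' : Gam n 2 F).left * A⁻¹) 1 := by
    conv_lhs => rw [e1]
    rw [← map_inv, ← map_mul, ← map_mul, rho_inl, cG_apply]
  rw [e2, rho_apply, hbr] at hab
  obtain ⟨-, c, hc, h1⟩ := eq_of_toAut_eq hF (by omega) hab.symm
  have hc0 : c ≠ 0 := by
    rintro rfl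
    rw [zero_mul] at hc
    exact zero_ne_one hc
  have h2 : gm (b' : Gam n 2 F).left * gm A = c • (gm A * gm (a' : Gam n 2 F).left) := by
    rw [h1, Matrix.smul_mul, ← gm_mul, ← gm_mul, inv_mul_cancel_right]
  -- the monomial entries
  have hma := isMono_permX a'
  have hmb := isMono_permX b'
  have hna : ∀ j, gm (a' : Gam n 2 F).left (permX n 2 F a' j) j ≠ 0 := fun j =>
    hma.apply_ne_zero (A := (((a' : Gam n 2 F).left : GU n F 2) : GL (Fin n) F)) j
  have hnb : ∀ j, gm (b' : Gam n 2 F).left (permX n 2 F b' j) j ≠ 0 := fun j =>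
    hmb.apply_ne_zero (A := (((b' : Gam n 2 F).left : GU n F 2) : GL (Fin n) F)) j
  have h3 : ∀ i j, M (permX n 2 F b' i) (permX n 2 F a' j) *
      gm (a' : Gam n 2 F).left (permX n 2 F a' j) j =
      ((c * t (permX n 2 F b' i))⁻¹ * (gm (b' : Gam n 2 F).left (permX n 2 F b' i) i * t i)) * M i j := by
    intro i j
    have h4 := congrFun (congrFun h2 (permX n 2 F b' i)) j
    rw [Matrix.smul_apply, hma.mul_apply, Matrix.mul_apply, Finset.sum_eq_single i, hA, hA,
      smul_eq_mul] at h4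
    · have h5 : c * t (permX n 2 F b' i) ≠ 0 := mul_ne_zero hc0 (ht _)
      rw [inv_mul_eq_div, div_mul_eq_mul_div, eq_div_iff h5]
      linear_combination -h4
    · intro k _ hk
      rw [hmb _ k (fun h => hk ((permX n 2 F b').injective h.symm)), zero_mul]
    · intro h
      exact (h (Finset.mem_univ _)).elim
  obtain ⟨hπ, s, hs⟩ := hkey _ ⟨a', ha', rfl⟩ _ ⟨b', hb', rfl⟩ _ _ hna
    (fun i => mul_ne_zero (inv_ne_zero (mul_ne_zero hc0 (ht _))) (mul_ne_zero (hnb i) (ht i))) h3
  -- `a'` is a scalar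
  have hs0 : s ≠ 0 := by
    rw [← hs ⟨0, by omega⟩]
    exact hna _
  have hs3 : s * s ^ 2 = 1 := by
    have := card_units_four hF hs0
    rw [← this]
    ring
  have h6 : (a' : Gam n 2 F).left = sc n ⟨s, hs3⟩ * 1 := by
    apply gm_inj
    rw [gm_sc_mul, gm_one]
    ext i j
    rw [Matrix.smul_apply, Matrix.one_apply, smul_eq_mul]
    have h7 := hs j
    rw [hπ] at h7 hma
    split_ifs with hij
    · subst hij
      rw [mul_one]
      exact h7
    · rw [mul_zero]
      exact hma i j hij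
  change rho n 2 F (a' : Gam n 2 F) = 1
  rw [e1, rho_inl, cG_apply, h6, toAut_sc_mul, ← cG_apply, map_one]

/-- **The row** `PSU_n(2)`, `p = 3`, in the form of the task. -/
theorem meet3_PSU_two {n : ℕ} {F : Type} [Field F] [Fintype F] (hF : Fintype.card F = 2 ^ 2)
    (hn : 4 ≤ n) : Cfsg.Agent.H903.SylMeet.Meet 3 (Cfsg.PSU n F 2) := meet3_PSU_two' hF hn

end

end Cfsg.Agent.H108.MeetU
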