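import Mathlib

/-!
# Rigid unitary matrices over the field with four elements (helper108, for S2484 / S5760)

`ext A b` enlarges a unitary matrix by a Fourier block on the column `b` and two new coordinates.
If `A` has no automorphism of order three (pair of monomial matrices) fixing the column `b` and avoiding a set of three
rows, then `ext A b` has none avoiding a set of three columns and a set of three rows.
-/

set_option autoImplicit false
set_option linter.unusedSectionVars false

namespace Cfsg.Agent.H108.MeetU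

open Finset

/-- a permutation of `3`-power order -/
def P3 {ι : Type*} (σ : Equiv.Perm ι) : Prop := ∃ k : ℕ, σ ^ 3 ^ k = 1

theorem P3.fix_pair {ι : Type*} {σ : Equiv.Perm ι} (h : P3 σ) {x y : ι} (hx : σ x = x ∨ σ x = y)
    (hy : σ y = x ∨ σ y = y) : σ x = x := by
  rcases hx with hx | hx
  · exact hx
  by_contra hne
  have hy' : σ y = x := by
    rcases hy with hy | hy
    · exact hy
    · exfalso
      apply hne
      have : x = y := σ.injective (hx.trans hy.symm)
      rw [hx, ← this]
  have h2 : ∀ m : ℕ, (σ ^ (2 * m)) x = x := by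
    intro m
    induction m with
    | zero => simp
    | succ m ih =>
      rw [mul_add, mul_one, pow_add, Equiv.Perm.mul_apply, pow_two, Equiv.Perm.mul_apply, hx, hy', ih]
  obtain ⟨k, hk⟩ := h
  have hodd : Odd (3 ^ k) := (by decide : Odd 3).pow
  obtain ⟨m, hm⟩ := hodd
  have h3 : (σ ^ 3 ^ k) x = σ x := by
    rw [hm, pow_add, pow_one, Equiv.Perm.mul_apply]
    have h4 := h2 m
    calc (σ ^ (2 * m)) (σ x) = σ ((σ ^ (2 * m)) x) := by
          rw [← Equiv.Perm.mul_apply, ← Equiv.Perm.mul_apply, ← pow_succ, ← pow_succ']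
      _ = σ x := by rw [h4]
  rw [hk] at h3
  exact hne h3.symm

theorem P3.of_semiconj {α β : Type*} {σ : Equiv.Perm α} {τ : Equiv.Perm β} (h : P3 τ) (g : α → β)
    (hg : Function.Injective g) (D : Set α) (hD : ∀ a ∈ D, σ a ∈ D ∧ g (σ a) = τ (g a))
    (hfix : ∀ a, a ∉ D → σ a = a) : P3 σ := by
  obtain ⟨k, hk⟩ := h
  have key : ∀ m : ℕ, (∀ a ∈ D, (σ ^ m) a ∈ D ∧ g ((σ ^ m) a) = (τ ^ m) (g a)) ∧ ∀ a, a ∉ D → (σ ^ m) a = a := by
    intro m
    induction m with
    | zero => exact ⟨fun a ha => ⟨ha, rfl⟩, fun a _ => rfl⟩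
    | succ m ih =>
      refine ⟨fun a ha => ?_, fun a ha => ?_⟩
      · rw [pow_succ', Equiv.Perm.mul_apply, pow_succ', Equiv.Perm.mul_apply]
        obtain ⟨h1, h2⟩ := ih.1 a ha
        refine ⟨(hD _ h1).1, ?_⟩
        rw [(hD _ h1).2, h2]
      · rw [pow_succ', Equiv.Perm.mul_apply, ih.2 a ha, hfix a ha]
  refine ⟨k, ?_⟩
  ext a
  by_cases ha : a ∈ D
  · apply hg
    rw [((key _).1 a ha).2, hk]
    rfl
  · exact (key _).2 a ha

section

variable {F : Type*} [Field F] {ι : Type} [Fintype ι] [DecidableEq ι]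

open scoped Classical in
/-- indicator of being nonzero -/
noncomputable def ind (x : F) : ℕ := if x = 0 then 0 else 1

theorem ind_zero : ind (0 : F) = 0 := by simp [ind]

theorem ind_ne {x : F} (h : x ≠ 0) : ind x = 1 := by simp [ind, h]

/-- weight of a column -/
noncomputable def wt (A : Matrix ι ι F) (j : ι) : ℕ := ∑ i, ind (A i j)

/-- `(π, ρ, c, d)` is an automorphism of `A`. -/
structure Auto (A : Matrix ι ι F) (π ρ : Equiv.Perm ι) (c d : ι → F) : Prop where
  p3 : P3 π
  p3' : P3 ρ
  ne : ∀ j, c j ≠ 0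
  ne' : ∀ i, d i ≠ 0
  rel : ∀ i j, A (ρ i) (π j) * c j = d i * A i j

theorem Auto.zero_iff {A : Matrix ι ι F} {π ρ : Equiv.Perm ι} {c d : ι → F} (h : Auto A π ρ c d) (i j : ι) :
    A (ρ i) (π j) = 0 ↔ A i j = 0 := by
  have h1 := h.rel i j
  constructor
  · intro h0
    rw [h0, zero_mul] at h1
    exact (mul_eq_zero.1 h1.symm).resolve_left (h.ne' i)
  · intro h0
    rw [h0, mul_zero] at h1
    exact (mul_eq_zero.1 h1).resolve_right (h.ne j)

theorem Auto.wt_eq {A : Matrix ι ι F} {π ρ : Equiv.Perm ι} {c d : ι → F} (h : Auto A π ρ c d) (j : ι) :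
    wt A (π j) = wt A j := by
  unfold wt
  rw [← Equiv.sum_comp ρ]
  refine Finset.sum_congr rfl fun i _ => ?_
  by_cases h0 : A i j = 0
  · rw [h0, (h.zero_iff i j).2 h0]
  · rw [ind_ne h0, ind_ne (fun h1 => h0 ((h.zero_iff i j).1 h1))]

/-- `A Aᴴ = 1` for the involution `x ↦ x²`. -/
def Uni (A : Matrix ι ι F) : Prop := ∀ i k, ∑ j, A i j * A k j ^ 2 = if i = k then 1 else 0

/-- The inductive invariant. -/
structure Inv (A : Matrix ι ι F) (b : ι) (T : Finset ι) : Prop where
  uni : Uni A
  wt_le : ∀ j, wt A j ≤ wt A b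
  ex : ∃ i, A i b ≠ 0
  row : ∀ i, ∃ j, j ≠ b ∧ A i j ≠ 0
  rig : ∀ (π ρ : Equiv.Perm ι) (c d : ι → F), Auto A π ρ c d → π b = b →
    ((∀ x, x ∉ T → ρ x = x) → ρ = 1) → π = 1 ∧ ρ = 1 ∧ ∃ s, ∀ j, c j = s

/-- The extended matrix. -/
def ext (ω : F) (A : Matrix ι ι F) (b : ι) : Matrix (Option (Option ι)) (Option (Option ι)) F
  | some (some i), some (some j) => A i j
  | some (some i), some none => A i b
  | some (some i), none => A i b
  | some none, some (some j) => if j = b then 1 else 0
  | some none, some none => ω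
  | some none, none => ω ^ 2
  | none, some (some j) => if j = b then 1 else 0
  | none, some none => ω ^ 2
  | none, none => ω

/-- The three distinguished columns. -/
def tri (b : ι) : Finset (Option (Option ι)) := {some (some b), some none, none}

theorem mem_tri {b : ι} {x : Option (Option ι)} : x ∈ tri b ↔ x = some (some b) ∨ x = some none ∨ x = none := by
  simp [tri]

theorem not_mem_tri {b : ι} {x : Option (Option ι)} (h : x ∉ tri b) : ∃ j, j ≠ b ∧ x = some (some j) := by
  rw [mem_tri] at h
  push Not at h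
  rcases x with _ | _ | j
  · exact absurd rfl h.2.2
  · exact absurd rfl h.2.1
  · exact ⟨j, fun e => h.1 (by rw [e]), rfl⟩

theorem card_tri (b : ι) : (tri b).card = 3 := by
  unfold tri
  rw [Finset.card_insert_of_notMem, Finset.card_insert_of_notMem, Finset.card_singleton]
  · simp
  · simp

variable {ω : F} (hω : ω ^ 2 + ω + 1 = 0) {A : Matrix ι ι F} {b : ι} {T : Finset ι}

theorem ext_tri (i : ι) {x : Option (Option ι)} (hx : x ∈ tri b) : ext ω A b (some (some i)) x = A i b := by
  rw [mem_tri] at hx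
  rcases hx with rfl | rfl | rfl <;> rfl

omit [Fintype ι] in
theorem ne_zero_omega (hω : ω ^ 2 + ω + 1 = 0) : ω ≠ 0 := by
  rintro rfl
  simp at hω

theorem wt_ss {j : ι} (hj : j ≠ b) : wt (ext ω A b) (some (some j)) = wt A j := by
  unfold wt
  rw [Fintype.sum_option, Fintype.sum_option]
  simp [ext, hj, ind_zero]

theorem wt_tri (hω : ω ^ 2 + ω + 1 = 0) {x : Option (Option ι)} (hx : x ∈ tri b) :
    wt (ext ω A b) x = wt A b + 2 := by
  have h0 := ne_zero_omega hω
  have h1 := ind_ne (one_ne_zero : (1 : F) ≠ 0)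
  have h2 := ind_ne h0
  have h3 := ind_ne (pow_ne_zero 2 h0)
  rw [mem_tri] at hx
  unfold wt
  rw [Fintype.sum_option, Fintype.sum_option]
  rcases hx with rfl | rfl | rfl <;> simp [ext, h1, h2, h3] <;> ring

theorem uni_ext [CharP F 2] (hω : ω ^ 2 + ω + 1 = 0) (h : Uni A) : Uni (ext ω A b) := by
  have h2 : (2 : F) = 0 := CharTwo.two_eq_zero
  have e3 : ω ^ 3 = 1 := by linear_combination (ω - 1) * hω
  have e6 : ω ^ 6 = 1 := by rw [show 6 = 3 * 2 from rfl, pow_mul, e3, one_pow]
  intro x y
  rw [Fintype.sum_option, Fintype.sum_option]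
  rcases x with _ | _ | i <;> rcases y with _ | _ | k
  · simp [ext]
    linear_combination e3 + e6 + h2
  · simp [ext]
    linear_combination (ω ^ 2 + ω) * e3 + hω
  · simp [ext]
    linear_combination A k b ^ 2 * hω
  · simp [ext]
    linear_combination (ω ^ 2 + ω) * e3 + hω
  · simp [ext]
    linear_combination e3 + e6 + h2
  · simp [ext]
    linear_combination A k b ^ 2 * hω
  · simp [ext]
    linear_combination A i b * hω + A i b * ω * e3
  · simp [ext]
    linear_combination A i b * hω + A i b * ω * e3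
  · simp only [ext, Option.some.injEq]
    linear_combination A i b * A k b ^ 2 * h2 + h i k

/-- The old three rows. -/
def old (T : Finset ι) : Finset (Option (Option ι)) := T.image fun i => some (some i)

theorem mem_old {T : Finset ι} {x : Option (Option ι)} : x ∈ old T ↔ ∃ i ∈ T, some (some i) = x := by
  simp [old]

theorem card_old (T : Finset ι) : (old T).card = T.card :=
  Finset.card_image_of_injective _ fun _ _ h => Option.some.inj (Option.some.inj h)

variable {π ρ : Equiv.Perm (Option (Option ι))} {c d : Option (Option ι) → F}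

/-- the columns of `tri b` are the columns of maximal weight -/
theorem map_tri (hω : ω ^ 2 + ω + 1 = 0) (h : Inv A b T) (ha : Auto (ext ω A b) π ρ c d) (x : Option (Option ι)) :
    π x ∈ tri b ↔ x ∈ tri b := by
  have key : ∀ y : Option (Option ι), y ∈ tri b ↔ wt (ext ω A b) y = wt A b + 2 := by
    intro y
    refine ⟨wt_tri hω, fun hy => ?_⟩
    by_contra hn
    obtain ⟨j, hj, rfl⟩ := not_mem_tri hn
    rw [wt_ss hj] at hy
    have := h.wt_le j
    omega
  rw [key, key, ha.wt_eq]

theorem row_new {x : Option (Option ι)} (hx : x ∉ tri b) : ext ω A b none x = 0 ∧ ext ω A b (some none) x = 0 := by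
  obtain ⟨j, hj, rfl⟩ := not_mem_tri hx
  simp [ext, hj]

/-- the new rows are preserved -/
theorem map_new (hω : ω ^ 2 + ω + 1 = 0) (h : Inv A b T) (ha : Auto (ext ω A b) π ρ c d) :
    ρ none = none ∧ ρ (some none) = some none := by
  have key : ∀ i : Option (Option ι), (∀ x, x ∉ tri b → ext ω A b i x = 0) → ρ i = none ∨ ρ i = some none := by
    intro i hi
    rcases hk : ρ i with _ | _ | k
    · exact Or.inl rfl
    · exact Or.inr rfl
    · exfalso
      obtain ⟨j, hj, hj0⟩ := h.row k
      have h1 : (some (some j) : Option (Option ι)) ∉ tri b := by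
        rw [mem_tri]
        simp [hj]
      obtain ⟨x, hx⟩ := π.surjective (some (some j))
      have h2 : x ∉ tri b := fun hxt => h1 (by rw [← hx]; exact (map_tri hω h ha x).2 hxt)
      have h3 := (ha.zero_iff i x).2 (hi x h2)
      rw [hk, hx] at h3
      exact hj0 h3
  have h1 := key none fun x hx => (row_new hx).1
  have h2 := key (some none) fun x hx => (row_new hx).2
  exact ⟨ha.p3'.fix_pair h1 h2, ha.p3'.fix_pair (y := none) h2.symm h1.symm⟩

theorem step (hω : ω ^ 2 + ω + 1 = 0) (h : Inv A b T) (ha : Auto (ext ω A b) π ρ c d)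
    (hav : (∀ x, x ∉ old T → ρ x = x) → ρ = 1) :
    (∀ x, x ∉ tri b → π x = x) ∧ ρ = 1 ∧ ∃ s, ∀ j, c j = s := by
  obtain ⟨hn, hn'⟩ := map_new hω h ha
  -- the permutation of the rows
  have hρ : ∀ i : ι, ∃ i', ρ (some (some i)) = some (some i') := by
    intro i
    rcases hk : ρ (some (some i)) with _ | _ | k
    · exact absurd (ρ.injective (hk.trans hn.symm)) (by simp)
    · exact absurd (ρ.injective (hk.trans hn'.symm)) (by simp)
    · exact ⟨k, rfl⟩
  choose f hf using hρ
  have hfi : Function.Injective f := by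
    intro i j hij
    have h1 : ρ (some (some i)) = ρ (some (some j)) := by rw [hf, hf, hij]
    exact Option.some.inj (Option.some.inj (ρ.injective h1))
  let ρ₀ : Equiv.Perm ι := Equiv.ofBijective f (Finite.injective_iff_bijective.1 hfi)
  have hρ₀ : ∀ i, ρ (some (some i)) = some (some (ρ₀ i)) := hf
  have hss : Function.Injective (fun i : ι => (some (some i) : Option (Option ι))) :=
    fun _ _ h => Option.some.inj (Option.some.inj h)
  have hρp : P3 ρ₀ := ha.p3'.of_semiconj _ hss Set.univ (fun a _ => ⟨trivial, (hρ₀ a).symm⟩)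
    (fun a h => absurd trivial h)
  -- the permutation of the columns
  have hπ : ∀ j : ι, j ≠ b → ∃ j', j' ≠ b ∧ π (some (some j)) = some (some j') := by
    intro j hj
    apply not_mem_tri
    rw [map_tri hω h ha, mem_tri]
    simp [hj]
  choose! g hg hg' using hπ
  let g' : ι → ι := fun j => if j = b then b else g j
  have hgi : Function.Injective g' := by
    intro i j hij
    by_cases hi : i = b <;> by_cases hj : j = b
    · rw [hi, hj]
    · simp only [g', hi, hj, if_true, if_false] at hij
      exact absurd hij.symm (hg j hj)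
    · simp only [g', hi, hj, if_true, if_false] at hij
      exact absurd hij (hg i hi)
    · simp only [g', hi, hj, if_false] at hij
      apply hss
      apply π.injective
      change π (some (some i)) = π (some (some j))
      rw [hg' i hi, hg' j hj, hij]
  let π₀ : Equiv.Perm ι := Equiv.ofBijective g' (Finite.injective_iff_bijective.1 hgi)
  have hπb : π₀ b = b := if_pos rfl
  have hπ₀ : ∀ j, j ≠ b → π₀ j ≠ b ∧ π (some (some j)) = some (some (π₀ j)) := by
    intro j hj
    have h1 : π₀ j = g j := if_neg hj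
    rw [h1]
    exact ⟨hg j hj, hg' j hj⟩
  have hπp : P3 π₀ := ha.p3.of_semiconj _ hss {j | j ≠ b} (fun a h => ⟨(hπ₀ a h).1, (hπ₀ a h).2.symm⟩)
    (fun a h => by
      have : a = b := by
        by_contra h'
        exact h h'
      rw [this, hπb])
  -- the columns of `tri b`
  have hrel : ∀ i, ∀ x ∈ tri b, A (ρ₀ i) b * c x = d (some (some i)) * A i b := by
    intro i x hx
    have h1 := ha.rel (some (some i)) x
    rw [hρ₀, ext_tri _ ((map_tri hω h ha x).2 hx), ext_tri _ hx] at h1
    exact h1
  have hb : (some (some b) : Option (Option ι)) ∈ tri b := by simp [mem_tri]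
  have hc : ∀ x ∈ tri b, c x = c (some (some b)) := by
    intro x hx
    obtain ⟨i, hi⟩ := h.ex
    have h1 := (hrel i x hx).trans (hrel i _ hb).symm
    have h2 : A (ρ₀ i) b ≠ 0 := by
      intro h0
      have h3 := hrel i _ hb
      rw [h0, zero_mul] at h3
      exact mul_ne_zero (ha.ne' _) hi h3.symm
    exact mul_left_cancel₀ h2 h1
  have hauto : Auto A π₀ ρ₀ (fun j => c (some (some j))) (fun i => d (some (some i))) := by
    refine ⟨hπp, hρp, fun j => ha.ne _, fun i => ha.ne' _, fun i j => ?_⟩
    by_cases hj : j = b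
    · subst hj
      rw [hπb]
      exact hrel i _ hb
    · have h1 := ha.rel (some (some i)) (some (some j))
      rw [hρ₀, (hπ₀ j hj).2] at h1
      exact h1
  obtain ⟨h1, h2, s, hs⟩ := h.rig π₀ ρ₀ _ _ hauto hπb (by
    intro hT
    have h3 : ρ = 1 := by
      apply hav
      intro x hx
      rcases x with _ | _ | i
      · exact hn
      · exact hn'
      · rw [hρ₀, hT i]
        intro hi
        exact hx (mem_old.2 ⟨i, hi, rfl⟩)
    ext i
    have h4 := hρ₀ i
    rw [h3] at h4
    exact (hss h4).symm)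
  refine ⟨fun x hx => ?_, ?_, s, fun j => ?_⟩
  · obtain ⟨j, hj, rfl⟩ := not_mem_tri hx
    rw [(hπ₀ j hj).2, h1]
    rfl
  · ext1 x
    rcases x with _ | _ | i
    · exact hn
    · exact hn'
    · rw [hρ₀, h2]
      rfl
  · by_cases hj : j ∈ tri b
    · rw [hc j hj]
      exact hs b
    · obtain ⟨j', -, rfl⟩ := not_mem_tri hj
      exact hs j'

theorem inv_ext [CharP F 2] (hω : ω ^ 2 + ω + 1 = 0) (h : Inv A b T) : Inv (ext ω A b) none (old T) := by
  have hnt : (none : Option (Option ι)) ∈ tri b := by simp [mem_tri]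
  refine ⟨uni_ext hω h.uni, fun j => ?_, ⟨none, ne_zero_omega hω⟩, fun i => ?_, ?_⟩
  · rw [wt_tri hω hnt]
    by_cases hj : j ∈ tri b
    · rw [wt_tri hω hj]
    · obtain ⟨j', hj', rfl⟩ := not_mem_tri hj
      rw [wt_ss hj']
      exact (h.wt_le j').trans (Nat.le_add_right _ _)
  · rcases i with _ | _ | i
    · exact ⟨some (some b), by simp, by simp [ext]⟩
    · exact ⟨some (some b), by simp, by simp [ext]⟩
    · obtain ⟨j, hj, hj0⟩ := h.row i
      exact ⟨some (some j), by simp, hj0⟩
  · intro π ρ c d ha hb hav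
    obtain ⟨h1, h2, h3⟩ := step hω h ha hav
    refine ⟨?_, h2, h3⟩
    have h4 : ∀ x ∈ tri b, x ≠ none → π x = some (some b) ∨ π x = some none := by
      intro x hx hx0
      have h5 := (map_tri hω h ha x).2 hx
      rw [mem_tri] at h5
      rcases h5 with h5 | h5 | h5
      · exact Or.inl h5
      · exact Or.inr h5
      · exact absurd (π.injective (h5.trans hb.symm)) hx0
    have h5 := h4 (some (some b)) (by simp [mem_tri]) (by simp)
    have h6 := h4 (some none) (by simp [mem_tri]) (by simp)
    ext1 x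
    by_cases hx : x ∈ tri b
    · rw [mem_tri] at hx
      rcases hx with rfl | rfl | rfl
      · exact ha.p3.fix_pair h5 h6
      · exact ha.p3.fix_pair h6.symm h5.symm
      · exact hb
    · exact h1 x hx

end

end Cfsg.Agent.H108.MeetU
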